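import Groth.Agent.MorLib.RingUnivHomeoTower

/-! Relative seminormalization and weak normalization as unions of towers. -/

set_option autoImplicit false
set_option linter.style.haveILetI false
universe u

namespace Groth.Agent.MorLib.RUH

open AlgebraicGeometry CategoryTheory

variable {A B : Type u} [CommRing A] [CommRing B] [Algebra A B] {Step : Subalgebra A B → B → Prop}
  (hmono : ∀ S S' b, S ≤ S' → Step S b → Step S' b)
  (hfin : ∀ (S : Subalgebra A B) b, Step S b → ∃ E : Finset B, (E : Set B) ⊆ S ∧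
    ∀ S' : Subalgebra A B, (E : Set B) ⊆ S' → Step S' b)

include hfin in
theorem mem_towerUnion_of_step {b : B} (hb : Step (towerUnion Step hmono) b) : b ∈ towerUnion Step hmono := by
  obtain ⟨E, hE, hE'⟩ := hfin _ _ hb
  obtain ⟨l, hl, hlg⟩ := exists_good_finset hmono E fun e he => hE he
  exact ⟨l ++ [b], good_snoc hmono hlg (hE' _ hl), Algebra.subset_adjoin (by simp)⟩

include hfin in
/-- A subalgebra of the tower union closed under steps is everything. -/
theorem eq_top_of_closed (D : Subalgebra A (towerUnion Step hmono))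
    (hD : ∀ b : towerUnion Step hmono, Step (D.map (towerUnion Step hmono).val) (b : B) → b ∈ D) :
    ∀ b : towerUnion Step hmono, b ∈ D := by
  rintro ⟨x, l, hl, hx⟩
  have key : ∀ c : B, Step (D.map (towerUnion Step hmono).val) c → c ∈ D.map (towerUnion Step hmono).val := by
    intro c hc
    have hle : D.map (towerUnion Step hmono).val ≤ towerUnion Step hmono := by
      rintro _ ⟨y, -, rfl⟩
      exact y.2
    have hcB := mem_towerUnion_of_step hmono hfin (hmono _ _ _ hle hc)
    exact ⟨⟨c, hcB⟩, hD ⟨c, hcB⟩ hc, rfl⟩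
  obtain ⟨y, hy, hyx⟩ := adjoin_le_of_good _ hmono key l hl hx
  rwa [← show y = ⟨x, l, hl, hx⟩ from Subtype.ext hyx]

/-- Surjectivity for an integral subalgebra of a dominant map. -/
theorem comap_surjective_of_dominant [IsDominant (Spec.map (CommRingCat.ofHom (algebraMap A B)))]
    (S : Subalgebra A B) (hi : (algebraMap A S).IsIntegral) :
    Function.Surjective (PrimeSpectrum.comap (algebraMap A S)) := by
  rw [← Set.range_eq_univ, ← (PrimeSpectrum.isClosedMap_comap_of_isIntegral _ hi).isClosed_range.closure_eq,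
    ← dense_iff_closure_eq]
  refine Dense.mono ?_ (Spec.map (CommRingCat.ofHom (algebraMap A B))).denseRange
  rintro _ ⟨q, rfl⟩
  exact ⟨PrimeSpectrum.comap S.val.toRingHom q, rfl⟩

theorem isUnivHomeo_towerUnion [IsDominant (Spec.map (CommRingCat.ofHom (algebraMap A B)))]
    (hstep : ∀ S b, Step S b → StepP S b)
    (hfin : ∀ (S : Subalgebra A B) b, Step S b → ∃ E : Finset B, (E : Set B) ⊆ S ∧
      ∀ S' : Subalgebra A B, (E : Set B) ⊆ S' → Step S' b) :
    FlatMor.IsUnivHomeo (Spec.map (CommRingCat.ofHom (algebraMap A (towerUnion Step hmono)))) := by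
  have hi : (algebraMap A (towerUnion Step hmono)).IsIntegral := by
    refine fun b => eq_top_of_closed hmono hfin (integralClosure A _) (fun c hc => ?_) b
    rcases hstep _ _ hc with ⟨⟨y, hy, hyc⟩, -⟩ | ⟨p, hp, -, ⟨y, hy, hyc⟩⟩
    · rw [show y = c ^ 2 from Subtype.ext hyc] at hy
      exact IsIntegral.of_pow (by norm_num) hy
    · rw [show y = c ^ p from Subtype.ext hyc] at hy
      exact IsIntegral.of_pow hp.pos hy
  refine (isUnivHomeo_SpecMap_iff _).mpr ⟨hi, fun K _ f g hfg => ?_, comap_surjective_of_dominant _ hi⟩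
  let D : Subalgebra A (towerUnion Step hmono) :=
    { RingHom.eqLocus f g with algebraMap_mem' := fun a => congr($hfg a) }
  refine RingHom.ext (eq_top_of_closed hmono hfin D fun c hc => ?_)
  rcases hstep _ _ hc with ⟨⟨y, hy, hyc⟩, ⟨z, hz, hzc⟩⟩ | ⟨p, hp, ⟨y, hy, hyc⟩, ⟨z, hz, hzc⟩⟩
  · obtain rfl : y = c ^ 2 := Subtype.ext (hyc.trans (SubmonoidClass.coe_pow c 2).symm)
    obtain rfl : z = c ^ 3 := Subtype.ext (hzc.trans (SubmonoidClass.coe_pow c 3).symm)
    exact eq_of_sq_cube (by rw [← map_pow, ← map_pow]; exact hy) (by rw [← map_pow, ← map_pow]; exact hz)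
  · obtain rfl : y = (p : towerUnion Step hmono) * c := Subtype.ext (hyc.trans (by simp))
    obtain rfl : z = c ^ p := Subtype.ext hzc
    refine eq_of_prime_step hp ?_ (by rw [← map_pow, ← map_pow]; exact hz)
    have : f (p * c) = g (p * c) := hy
    simpa using this

theorem residueFieldMap_surjective_towerUnion (hstep : ∀ S b, Step S b → Step23 S b)
    (hfin : ∀ (S : Subalgebra A B) b, Step S b → ∃ E : Finset B, (E : Set B) ⊆ S ∧
      ∀ S' : Subalgebra A B, (E : Set B) ⊆ S' → Step S' b)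
    (q : Spec (CommRingCat.of (towerUnion Step hmono))) :
    Function.Surjective
      ((Spec.map (CommRingCat.ofHom (algebraMap A (towerUnion Step hmono)))).residueFieldMap q) := by
  let g := (Spec.map (CommRingCat.ofHom (algebraMap A (towerUnion Step hmono)))).residueFieldMap q
  let D : Subalgebra A (towerUnion Step hmono) :=
    { (g.hom.fieldRange.toSubring.comap (ev q).hom) with
      algebraMap_mem' := fun a => ⟨ev _ a, residueFieldMap_ev _ q a⟩ }
  have key : ∀ b, b ∈ D := eq_top_of_closed hmono hfin D fun c hc => by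
    obtain ⟨⟨y, hy, hyc⟩, ⟨z, hz, hzc⟩⟩ := hstep _ _ hc
    obtain rfl : y = c ^ 2 := Subtype.ext (hyc.trans (SubmonoidClass.coe_pow c 2).symm)
    obtain rfl : z = c ^ 3 := Subtype.ext (hzc.trans (SubmonoidClass.coe_pow c 3).symm)
    show ev q c ∈ g.hom.fieldRange
    by_cases hb : ev q c = 0
    · rw [hb]; exact zero_mem _
    · have : ev q c = ev q (c ^ 3) / ev q (c ^ 2) := by
        rw [map_pow, map_pow, eq_div_iff (pow_ne_zero 2 hb)]
        ring
      rw [this]
      exact div_mem hz hy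
  intro z
  obtain ⟨b, c, -, rfl⟩ := exists_eq_ev_div q z
  exact (div_mem (key b) (key c) : ev q b / ev q c ∈ g.hom.fieldRange)

/-- Universality of the tower union. -/
theorem range_le_towerUnion (Q : ℕ → Prop) (hQ : ∀ e, Q e → 2 ≤ e)
    (hStep : ∀ S b, ((b ^ 2 ∈ S ∧ b ^ 3 ∈ S) ∨ ∃ e, Q e ∧ (e : B) * b ∈ S ∧ b ^ e ∈ S) → Step S b)
    (hfin : ∀ (S : Subalgebra A B) b, Step S b → ∃ E : Finset B, (E : Set B) ⊆ S ∧
      ∀ S' : Subalgebra A B, (E : Set B) ⊆ S' → Step S' b)
    {C : Type u} [CommRing C] [Algebra A C] (g : C →ₐ[A] B)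
    (hU : FlatMor.IsUnivHomeo (Spec.map (CommRingCat.ofHom (algebraMap A C))))
    (hP : ∀ (q : PrimeSpectrum C) (b : C), ∃ e : ℕ, (e = 1 ∨ (Q e ∧ (e : C) ∈ q.asIdeal)) ∧
      ∃ (n : ℕ) (a s : A), algebraMap A C s ∉ q.asIdeal ∧
        algebraMap A C s * b ^ (e ^ n) - algebraMap A C a ∈ q.asIdeal) :
    g.range ≤ towerUnion Step hmono := by
  rintro _ ⟨c, rfl⟩
  by_contra hne
  have hT : (towerUnion Step hmono).comap g ≠ ⊤ := fun h => hne (h.ge (Algebra.mem_top (x := c)))
  obtain ⟨b, hb, hs⟩ := exists_step_subalgebra hU Q hQ hP _ hT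
  refine hb (mem_towerUnion_of_step hmono hfin (hStep _ _ ?_))
  rcases hs with ⟨h1, h2⟩ | ⟨e, he, h1, h2⟩
  · exact Or.inl ⟨by rw [← map_pow]; exact h1, by rw [← map_pow]; exact h2⟩
  · exact Or.inr ⟨e, he, by simpa [Subalgebra.mem_comap] using h1, by rw [← map_pow]; exact h2⟩

end Groth.Agent.MorLib.RUH
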