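import Groth.Agent.MorLib.RingUnivHomeo
import Groth.Agent.Hensel.EtaleReduced
import Mathlib.RingTheory.LocalProperties.Reduced
import Mathlib.RingTheory.Smooth.IntegralClosure
import Mathlib.RingTheory.Flat.Stability

/-! Base change of the weak subintegral closure. -/

set_option autoImplicit false
set_option linter.style.haveILetI false
universe u

open AlgebraicGeometry CategoryTheory TensorProduct

namespace Groth.Agent.MorLib.WSBC

variable {A : Type u} [CommRing A]

theorem isUnivHomeo_of_algEquiv {C D : Type u} [CommRing C] [CommRing D] [Algebra A C] [Algebra A D] (e : C ≃ₐ[A] D)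
    (h : FlatMor.IsUnivHomeo (Spec.map (CommRingCat.ofHom (algebraMap A C)))) :
    FlatMor.IsUnivHomeo (Spec.map (CommRingCat.ofHom (algebraMap A D))) := by
  obtain ⟨h1, h2, h3⟩ := (RUH.isUnivHomeo_SpecMap_iff _).1 h
  have he : algebraMap A D = e.toAlgHom.toRingHom.comp (algebraMap A C) := e.toAlgHom.comp_algebraMap.symm
  refine (RUH.isUnivHomeo_SpecMap_iff _).2 ⟨?_, fun K _ f g hfg => ?_, ?_⟩
  · exact he ▸ h1.trans _ _ (RingHom.isIntegral_of_surjective _ e.surjective)
  · have := h2 K (f.comp e.toAlgHom.toRingHom) (g.comp e.toAlgHom.toRingHom) (by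
      rw [RingHom.comp_assoc, RingHom.comp_assoc, ← he, hfg])
    ext d
    obtain ⟨c, rfl⟩ := e.surjective d
    exact congr($this c)
  · intro p
    obtain ⟨q, rfl⟩ := h3 p
    refine ⟨PrimeSpectrum.comap e.symm.toAlgHom.toRingHom q, PrimeSpectrum.ext ?_⟩
    ext a
    show e.symm (algebraMap A D a) ∈ q.asIdeal ↔ algebraMap A C a ∈ q.asIdeal
    rw [AlgEquiv.commutes]

theorem isUnivHomeo_baseChange (A' : Type u) [CommRing A'] [Algebra A A'] (C : Type u) [CommRing C] [Algebra A C]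
    (h : FlatMor.IsUnivHomeo (Spec.map (CommRingCat.ofHom (algebraMap A C)))) :
    FlatMor.IsUnivHomeo (Spec.map (CommRingCat.ofHom (algebraMap A' (A' ⊗[A] C)))) := by
  haveI : MorphismProperty.IsStableUnderBaseChange FlatMor.IsUnivHomeo.{u} := by
    unfold FlatMor.IsUnivHomeo; infer_instance
  exact MorphismProperty.of_isPullback (P := FlatMor.IsUnivHomeo.{u})
    (isPullback_SpecMap_of_isPushout _ _ _ _ (CommRingCat.isPushout_tensorProduct A A' C)).flip h

theorem exists_flat_bijective_reduced (A' B : Type u) [CommRing A'] [CommRing B] [Algebra A A'] [Algebra A B]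
    (hA' : (∃ M : Submonoid A, IsLocalization M A') ∨ Algebra.Etale A A') :
    Module.Flat A A' ∧ Function.Bijective (TensorProduct.toIntegralClosure A A' B) ∧
      ∀ (Q : Type u) [CommRing Q] [Algebra A Q] [_root_.IsReduced Q], _root_.IsReduced (A' ⊗[A] Q) := by
  rcases hA' with ⟨M, hM⟩ | hE
  · refine ⟨IsLocalization.flat A' M, TensorProduct.toIntegralClosure_bijective_of_isLocalization M, fun Q _ _ _ => ?_⟩
    haveI : _root_.IsReduced (Q ⊗[A] A') :=
      isReduced_localizationPreserves (Algebra.algebraMapSubmonoid Q M) (Q ⊗[A] A') inferInstance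
    exact isReduced_of_injective (Algebra.TensorProduct.comm A A' Q) (AlgEquiv.injective _)
  · haveI := hE
    refine ⟨inferInstance, TensorProduct.toIntegralClosure_bijective_of_smooth, fun Q _ _ _ => ?_⟩
    haveI : _root_.IsReduced (Q ⊗[A] A') := Hensel.isReduced_of_etale Q (Q ⊗[A] A')
    exact isReduced_of_injective (Algebra.TensorProduct.comm A A' Q) (AlgEquiv.injective _)

/-- Two algebra maps to a reduced ring agree on a radicial subalgebra. -/
theorem eq_of_radicial {A' C T R : Type u} [CommRing A'] [CommRing C] [CommRing T] [CommRing R] [_root_.IsReduced R]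
    [Algebra A' C] [Algebra A' T] [Algebra A' R] (h : RUH.Radicial (algebraMap A' C))
    (j : C →ₐ[A'] T) (f g : T →ₐ[A'] R) (c : C) : f (j c) = g (j c) := by
  refine sub_eq_zero.1 (IsReduced.eq_zero _ ?_)
  rw [← mem_nilradical, nilradical_eq_sInf, Ideal.mem_sInf]
  intro P hP
  haveI : P.IsPrime := hP
  let φ : R →+* FractionRing (R ⧸ P) := (algebraMap _ _).comp (Ideal.Quotient.mk P)
  have h' := h _ (φ.comp (f.comp j).toRingHom) (φ.comp (g.comp j).toRingHom)
    (RingHom.ext fun a => congrArg φ (((f.comp j).commutes a).trans ((g.comp j).commutes a).symm))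
  rw [← Ideal.Quotient.eq_zero_iff_mem, map_sub, sub_eq_zero]
  exact IsFractionRing.injective _ (FractionRing (R ⧸ P)) congr($h' c)

theorem mem_range_lTensor {A' Bi : Type u} [CommRing A'] [CommRing Bi] [Algebra A A'] [Algebra A Bi] [Module.Flat A A']
    (hred : ∀ (Q : Type u) [CommRing Q] [Algebra A Q] [_root_.IsReduced Q], _root_.IsReduced (A' ⊗[A] Q))
    (Ci : Subalgebra A Bi) (hcrit : ∀ b : Bi, b ∈ Ci ↔ IsNilpotent (b ⊗ₜ[A] (1 : Bi) - (1 : Bi) ⊗ₜ[A] b))
    {C' : Type u} [CommRing C'] [Algebra A' C'] (h : RUH.Radicial (algebraMap A' C'))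
    (j : C' →ₐ[A'] A' ⊗[A] Bi) (c : C') :
    ∃ z : A' ⊗[A] Ci, Ci.val.toLinearMap.lTensor A' z = j c := by
  let N := nilradical (Bi ⊗[A] Bi)
  haveI : _root_.IsReduced ((Bi ⊗[A] Bi) ⧸ N) :=
    (Ideal.isRadical_iff_quotient_reduced _).1 (Ideal.radical_isRadical _)
  haveI := hred ((Bi ⊗[A] Bi) ⧸ N)
  let l : Bi →ₐ[A] (Bi ⊗[A] Bi) ⧸ N := (Ideal.Quotient.mkₐ A N).comp Algebra.TensorProduct.includeLeft
  let r : Bi →ₐ[A] (Bi ⊗[A] Bi) ⧸ N := (Ideal.Quotient.mkₐ A N).comp Algebra.TensorProduct.includeRight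
  let δ : Bi →ₗ[A] (Bi ⊗[A] Bi) ⧸ N := l.toLinearMap - r.toLinearMap
  have hker : Function.Exact Ci.val.toLinearMap δ := fun b => by
    refine Iff.trans ?_ (⟨fun hb => ⟨⟨b, hb⟩, rfl⟩, by rintro ⟨c, rfl⟩; exact c.2⟩ : b ∈ Ci ↔ _)
    rw [hcrit b, ← mem_nilradical, ← Ideal.Quotient.eq_zero_iff_mem]
    show Ideal.Quotient.mk N (b ⊗ₜ[A] (1 : Bi)) - Ideal.Quotient.mk N ((1 : Bi) ⊗ₜ[A] b) = 0 ↔ _
    rw [← map_sub]
  refine (Module.Flat.lTensor_exact A' hker (j c)).1 ?_
  rw [show δ.lTensor A' = l.toLinearMap.lTensor A' - r.toLinearMap.lTensor A' from LinearMap.lTensor_sub _ _,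
    LinearMap.sub_apply, sub_eq_zero]
  exact eq_of_radicial (R := A' ⊗[A] ((Bi ⊗[A] Bi) ⧸ N)) h j (Algebra.TensorProduct.map (AlgHom.id A' A') l) (Algebra.TensorProduct.map (AlgHom.id A' A') r) c

end Groth.Agent.MorLib.WSBC
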